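import Groth.Agent.FEtSepBC.Connected
import Groth.Agent.EtH0Pair.Top
import Groth.Agent.S0168

/-!
# Covers of proper schemes over henselian pairs: restriction to the closed part is fully faithful
-/

set_option autoImplicit false
set_option linter.style.haveILetI false
set_option backward.isDefEq.respectTransparency false
set_option backward.isDefEq.respectTransparency.types false
set_option maxHeartbeats 800000

universe u

open CategoryTheory CategoryTheory.Limits AlgebraicGeometry

noncomputable section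

namespace Groth.Agent.FEtHens

open Groth.Agent.FEtGal

/-- clopen subsets correspond along `j` -/
structure ClopenLift {Z Y : Scheme.{u}} (j : Z ⟶ Y) : Prop where
  eq_empty : ∀ C : Set Y, IsClosed C → j ⁻¹' C = ∅ → C = ∅
  exists_lift : ∀ C' : Set Z, IsClopen C' → ∃ C : Set Y, IsClopen C ∧ j ⁻¹' C = C'

theorem ClopenLift.eq_of_preimage {Z Y : Scheme.{u}} {j : Z ⟶ Y} (h : ClopenLift j) (C D : Set Y) (hC : IsClopen C)
    (hD : IsClopen D) (he : j ⁻¹' C = j ⁻¹' D) : C = D := by
  have key : ∀ C D : Set Y, IsClopen C → IsClopen D → j ⁻¹' C = j ⁻¹' D → C ⊆ D := fun C D hC hD he =>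
    Set.sdiff_eq_empty.1 (h.eq_empty _ (hC.isClosed.sdiff hD.isOpen) (by rw [Set.preimage_sdiff, he, sdiff_self]; rfl))
  exact (key C D hC hD he).antisymm (key D C hD hC he.symm)

theorem ClopenLift.connectedSpace {Z Y : Scheme.{u}} {j : Z ⟶ Y} (h : ClopenLift j) [hZ : ConnectedSpace Z] :
    ConnectedSpace Y := by
  obtain ⟨z⟩ := hZ.toNonempty
  refine connectedSpace_iff_clopen.2 ⟨⟨j z⟩, fun C hC => ?_⟩
  rcases isClopen_iff.1 (hC.preimage j.continuous) with h1 | h1
  · exact .inl (h.eq_empty C hC.isClosed h1)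
  · exact .inr (h.eq_of_preimage C Set.univ hC isClopen_univ (by rw [h1, Set.preimage_univ]))

theorem ClopenLift.connectedSpace_left {Z Y : Scheme.{u}} {j : Z ⟶ Y} (h : ClopenLift j) [hY : ConnectedSpace Y] :
    ConnectedSpace Z := by
  have hne : Nonempty Z := by
    by_contra hne
    exact (Set.univ_nonempty (α := Y)).ne_empty (h.eq_empty Set.univ isClosed_univ
      (Set.eq_empty_of_forall_notMem fun z _ => hne ⟨z⟩))
  refine connectedSpace_iff_clopen.2 ⟨hne, fun C' hC' => ?_⟩
  obtain ⟨C, hC, rfl⟩ := h.exists_lift C' hC'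
  rcases isClopen_iff.1 hC with h1 | h1
  · exact .inl (by rw [h1, Set.preimage_empty])
  · exact .inr (by rw [h1, Set.preimage_univ])

variable {X₀ X : Scheme.{u}} (i : X₀ ⟶ X)

/-- clopen subsets of every finite scheme over `X` correspond to those of its restriction -/
def FinClopenLift : Prop := ∀ (Y : Scheme.{u}) (g : Y ⟶ X), IsFinite g → ClopenLift (pullback.fst g i)

variable {i}

theorem faithful_restrict (h : FinClopenLift i) : (FEt.restrict i).Faithful := by
  refine ⟨fun {E F} {a b} hab => ?_⟩
  let P : Scheme.{u} := pullback (str E) (str F)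
  let Γ : (E ⟶ F) → (E.left ⟶ P) := fun c => pullback.lift (𝟙 _) c.left
    (by rw [Category.id_comp]; exact (MorphismProperty.Over.w c).symm)
  have hΓ : ∀ c, Γ c ≫ pullback.fst (str E) (str F) = 𝟙 _ := fun c => pullback.lift_fst _ _ _
  haveI : ∀ c, IsClosedImmersion (Γ c) := fun c => by
    haveI : IsClosedImmersion (Γ c ≫ pullback.fst (str E) (str F)) := by rw [hΓ]; infer_instance
    exact IsClosedImmersion.of_comp (Γ c) (pullback.fst (str E) (str F))
  haveI : ∀ c, IsOpenImmersion (Γ c) := fun c => by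
    haveI : Etale (Γ c ≫ pullback.fst (str E) (str F)) := by rw [hΓ]; infer_instance
    haveI : Etale (Γ c) := Etale.of_comp (Γ c) (pullback.fst (str E) (str F))
    exact IsOpenImmersion.of_flat_of_mono _
  let D : Set E.left := Γ a ⁻¹' Set.range (Γ b)
  have hD : IsClopen D :=
    ⟨(Γ b).isClosedEmbedding.isClosed_range.preimage (Γ a).continuous,
      (Γ b).isOpenEmbedding.isOpen_range.preimage (Γ a).continuous⟩
  have heq : pullback.fst (str E) i ≫ Γ a = pullback.fst (str E) i ≫ Γ b := by
    apply pullback.hom_ext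
    · simp only [Category.assoc, hΓ]
    · simp only [Γ, Category.assoc, pullback.lift_snd]
      exact (pullback.lift_fst _ _ _).symm.trans ((congrArg
        (fun c : (FEt.restrict i).obj E ⟶ (FEt.restrict i).obj F => c.left ≫ pullback.fst (str F) i) hab).trans
        (pullback.lift_fst _ _ _))
  have hu : D = Set.univ := (h E.left (str E) inferInstance).eq_of_preimage D Set.univ hD isClopen_univ (by
    rw [Set.preimage_univ]
    refine Set.eq_univ_of_forall fun z => ⟨pullback.fst (str E) i z, ?_⟩
    rw [← Scheme.Hom.comp_apply, ← heq, Scheme.Hom.comp_apply])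
  have hr : Set.range (Γ a) ⊆ Set.range (Γ b) := by
    rintro _ ⟨z, rfl⟩
    exact (hu ▸ Set.mem_univ z : z ∈ D)
  let l := IsOpenImmersion.lift (Γ b) (Γ a) hr
  have hl : l ≫ Γ b = Γ a := IsOpenImmersion.lift_fac _ _ _
  have hl1 : l = 𝟙 _ := by
    have := congrArg (· ≫ pullback.fst (str E) (str F)) hl
    simpa only [Category.assoc, hΓ, Category.comp_id] using this
  rw [hl1, Category.id_comp] at hl
  exact hom_ext_left (by simpa [Γ] using congrArg (· ≫ pullback.snd (str E) (str F)) hl.symm)

theorem full_restrict (h : FinClopenLift i) : (FEt.restrict i).Full := by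
  refine ⟨fun {E F} φ => ?_⟩
  let EK : Scheme.{u} := pullback (str E) i
  let φl : EK ⟶ pullback (str F) i := φ.left
  have hφs : φl ≫ pullback.snd (str F) i = pullback.snd (str E) i := MorphismProperty.Over.w φ
  let P : Scheme.{u} := pullback (str E) (str F)
  let q : P ⟶ X := pullback.fst (str E) (str F) ≫ str E
  let PK : Scheme.{u} := pullback q i
  let γ : EK ⟶ PK := pullback.lift
    (pullback.lift (pullback.fst (str E) i) (φl ≫ pullback.fst (str F) i)
      (by rw [Category.assoc, pullback.condition, pullback.condition, ← Category.assoc φl, hφs]))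
    (pullback.snd (str E) i) (by simp only [q]; rw [pullback.lift_fst_assoc, pullback.condition])
  let r : PK ⟶ EK := pullback.lift (pullback.fst q i ≫ pullback.fst (str E) (str F)) (pullback.snd q i)
    (by rw [Category.assoc]; exact pullback.condition)
  have hsq : IsPullback (pullback.fst q i) r (pullback.fst (str E) (str F)) (pullback.fst (str E) i) :=
    IsPullback.of_bot (by rw [pullback.lift_snd]; exact IsPullback.of_hasPullback q i)
      (pullback.lift_fst _ _ _).symm (IsPullback.of_hasPullback (str E) i)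
  haveI : IsFinite r := MorphismProperty.of_isPullback (P := @IsFinite) hsq inferInstance
  haveI : Etale r := MorphismProperty.of_isPullback (P := @Etale) hsq inferInstance
  have hγ : γ ≫ r = 𝟙 EK := by apply pullback.hom_ext <;> simp [γ, r]
  haveI : IsClosedImmersion (γ ≫ r) := by rw [hγ]; infer_instance
  haveI : IsClosedImmersion γ := IsClosedImmersion.of_comp γ r
  haveI : Etale (γ ≫ r) := by rw [hγ]; infer_instance
  haveI : Etale γ := Etale.of_comp γ r
  haveI : IsOpenImmersion γ := IsOpenImmersion.of_flat_of_mono γ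
  let pr : PK ⟶ P := pullback.fst q i
  obtain ⟨C, hC, hCγ⟩ := (h P q inferInstance).exists_lift (Set.range γ)
    ⟨γ.isClosedEmbedding.isClosed_range, γ.isOpenEmbedding.isOpen_range⟩
  let T : P.Opens := ⟨C, hC.isOpen⟩
  haveI : IsClosedImmersion T.ι := PiSpDesc.isClosedImmersion_ι T hC.isClosed
  let t : T.toScheme ⟶ E.left := T.ι ≫ pullback.fst (str E) (str F)
  have hγT : Set.range (γ ≫ pr) ⊆ Set.range T.ι := by
    rw [Scheme.Opens.range_ι]
    rintro _ ⟨z, rfl⟩
    have hz : γ z ∈ pullback.fst q i ⁻¹' C := by rw [hCγ]; exact ⟨z, rfl⟩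
    rw [Scheme.Hom.comp_apply]
    exact hz
  let g : EK ⟶ T.toScheme := IsOpenImmersion.lift T.ι (γ ≫ pr) hγT
  have hg : g ≫ T.ι = γ ≫ pr := IsOpenImmersion.lift_fac _ _ _
  have hpb : IsPullback g γ T.ι pr := by
    refine IsOpenImmersion.isPullback g γ T.ι pr hg.symm ?_
    ext1
    simp only [Scheme.Hom.coe_opensRange, TopologicalSpace.Opens.map_coe, Scheme.Opens.range_ι]
    exact hCγ
  have htot : IsPullback g (𝟙 EK) t (pullback.fst (str E) i) := hγ ▸ hpb.paste_vert hsq
  haveI : IsFinite t := inferInstance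
  haveI : Etale t := inferInstance
  have hrank : ∀ e, t.finrank e = 1 := by
    have hD : IsClopen (t.finrank ⁻¹' {1}) := t.isLocallyConstant_finrank.isClopen_fiber 1
    have hu := (h E.left (str E) inferInstance).eq_of_preimage _ Set.univ hD isClopen_univ (by
      rw [Set.preimage_univ]
      refine Set.eq_univ_of_forall fun z => ?_
      show t.finrank (pullback.fst (str E) i z) = 1
      rw [← Scheme.Hom.finrank_of_isPullback g (𝟙 EK) t (pullback.fst (str E) i) htot]
      exact congrFun ((Scheme.Hom.isIso_iff_finrank_eq (𝟙 EK)).1 inferInstance) z)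
    exact fun e => (hu.ge (Set.mem_univ e) :)
  haveI : IsIso t := (Scheme.Hom.isIso_iff_finrank_eq t).2 (funext hrank)
  let ψ : E.left ⟶ F.left := inv t ≫ T.ι ≫ pullback.snd (str E) (str F)
  have hψ : pullback.fst (str E) i ≫ ψ = φl ≫ pullback.fst (str F) i := by
    have h1 : g ≫ t = pullback.fst (str E) i := by rw [htot.w, Category.id_comp]
    simp only [ψ]
    rw [← h1, Category.assoc, IsIso.hom_inv_id_assoc, reassoc_of% hg]
    simp [γ, pr]
  have hψw : ψ ≫ str F = str E := by
    simp only [ψ, Category.assoc, ← pullback.condition]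
    rw [← Category.assoc T.ι]
    exact IsIso.inv_hom_id_assoc t _
  refine ⟨MorphismProperty.Over.homMk ψ hψw, hom_ext_left (pullback.hom_ext ?_ ?_)⟩
  · exact (pullback.lift_fst _ _ _).trans hψ
  · exact (pullback.lift_snd _ _ _).trans hφs.symm

/-- **clopen subsets of proper schemes over henselian pairs** -/
theorem clopenLift_of_henselian (A : Type u) [CommRing A] (I : Ideal A) [HenselianRing A I] {X : Scheme.{u}}
    (f : X ⟶ Spec (CommRingCat.of A)) [IsProper f] :
    ClopenLift (pullback.fst f (Spec.map (CommRingCat.ofHom (Ideal.Quotient.mk I)))) := by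
  let j := pullback.fst f (Spec.map (CommRingCat.ofHom (Ideal.Quotient.mk I)))
  haveI : IsClosedImmersion j := MorphismProperty.pullback_fst _ _ inferInstance
  have hS : EtH0Pair.SectBij (X := X.carrier) (Set.range j) := fun F => Groth.Agent.S0168.result A I X f F
  refine ⟨fun C hC h => hS.eq_empty_of_disjoint hC (Set.disjoint_left.2 ?_), fun C' hC' => ?_⟩
  · rintro _ hy ⟨z, rfl⟩
    exact (Set.ext_iff.1 h z).1 hy
  · classical
    let e := j.isEmbedding.toHomeomorph
    let χ : LocallyConstant (Set.range j) (ULift.{u} Bool) :=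
      ((LocallyConstant.ofIsClopen hC').map fun n : Fin 2 => ⟨n = 0⟩).comap ⟨e.symm, e.symm.continuous⟩
    obtain ⟨g, hg⟩ := hS.exists_extension χ
    refine ⟨g ⁻¹' {⟨true⟩}, g.isLocallyConstant.isClopen_fiber _, Set.ext fun z => ?_⟩
    show g (j z) = ⟨true⟩ ↔ z ∈ C'
    have hgz : g (j z) = χ ⟨j z, z, rfl⟩ := hg ⟨j z, z, rfl⟩
    rw [hgz]
    show (⟨decide (LocallyConstant.ofIsClopen hC' (e.symm (e z)) = 0)⟩ : ULift.{u} Bool) = ⟨true⟩ ↔ z ∈ C'
    rw [Homeomorph.symm_apply_apply]
    simp [LocallyConstant.ofIsClopen]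

theorem finClopenLift_of_henselian (A : Type u) [CommRing A] (I : Ideal A) [HenselianRing A I] {X : Scheme.{u}}
    (f : X ⟶ Spec (CommRingCat.of A)) [IsProper f] :
    FinClopenLift (pullback.fst f (Spec.map (CommRingCat.ofHom (Ideal.Quotient.mk I)))) := by
  intro Y g hg
  haveI := hg
  let s := Spec.map (CommRingCat.ofHom (Ideal.Quotient.mk I))
  let e := pullbackRightPullbackFstIso f s g
  have he : e.hom ≫ pullback.fst (g ≫ f) s = pullback.fst g (pullback.fst f s) := pullbackRightPullbackFstIso_hom_fst f s g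
  have H := clopenLift_of_henselian A I (g ≫ f)
  refine ⟨fun C hC h => H.eq_empty C hC ?_, fun C' hC' => ?_⟩
  · refine Set.eq_empty_of_forall_notMem fun z hz => ?_
    refine (Set.ext_iff.1 h (e.inv z)).1 ?_
    show pullback.fst g (pullback.fst f s) (e.inv z) ∈ C
    rwa [← he, ← Scheme.Hom.comp_apply, Iso.inv_hom_id_assoc]
  · obtain ⟨C, hC, h⟩ := H.exists_lift (e.inv ⁻¹' C') (hC'.preimage e.inv.continuous)
    refine ⟨C, hC, Set.ext fun z => ?_⟩
    have := Set.ext_iff.1 h (e.hom z)
    simp only [Set.mem_preimage] at this ⊢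
    rw [← Scheme.Hom.comp_apply, ← Scheme.Hom.comp_apply e.hom e.inv, Iso.hom_inv_id, he] at this
    exact this

end Groth.Agent.FEtHens
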