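import Groth.Agent.FEtHens.Basic
import Groth.Agent.FEtProd.Constant
import Groth.Agent.FieldFEt.Main
import Groth.Agent.SepBC.Basic
import Groth.Agent.S0267
import Groth.Agent.S0285
import Groth.Agent.S0239
import Groth.Agent.FLCFilt.Basic

/-!
# Proper schemes over henselian local rings with geometrically connected closed fibre
-/

set_option autoImplicit false
set_option linter.style.haveILetI false
set_option backward.isDefEq.respectTransparency false
set_option backward.isDefEq.respectTransparency.types false
set_option maxHeartbeats 800000

universe u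

open CategoryTheory CategoryTheory.Limits AlgebraicGeometry

noncomputable section

namespace Groth.Agent.FEtHens

open Groth.Agent.FEtGal Groth.Agent.FEtSepBC

variable (A : Type u) [CommRing A] [HenselianLocalRing A] {X : Scheme.{u}} (f : X ⟶ Spec (CommRingCat.of A))

local notation "kA" => IsLocalRing.ResidueField A
local notation "rs" => Spec.map (CommRingCat.ofHom (IsLocalRing.residue A))
local notation "ga" => Spec.map (CommRingCat.ofHom (algebraMap (IsLocalRing.ResidueField A) (AlgebraicClosure (IsLocalRing.ResidueField A))))

omit [HenselianLocalRing A] in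
theorem geomClosedFibre_eq [IsLocalRing A] :
    Spec.map (CommRingCat.ofHom ((algebraMap (IsLocalRing.ResidueField A)
      (AlgebraicClosure (IsLocalRing.ResidueField A))).comp (IsLocalRing.residue A))) = ga ≫ rs := by
  rw [← Spec.map_comp]
  rfl

theorem finClopenLift_closedFibre [IsProper f] : FinClopenLift (pullback.fst f rs) :=
  finClopenLift_of_henselian A (IsLocalRing.maximalIdeal A) f

theorem clopenLift_closedFibre [IsProper f] : ClopenLift (pullback.fst f rs) :=
  clopenLift_of_henselian A (IsLocalRing.maximalIdeal A) f

variable [hconn : ConnectedSpace (pullback f (Spec.map (CommRingCat.ofHom (algebraMap (IsLocalRing.ResidueField A)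
  (AlgebraicClosure (IsLocalRing.ResidueField A)))) ≫ Spec.map (CommRingCat.ofHom (IsLocalRing.residue A))) : Scheme.{u})]

theorem connectedSpace_geomFibre : ConnectedSpace (pullback (pullback.snd f rs) ga : Scheme.{u}) :=
  (pullbackLeftPullbackSndIso f rs ga).hom.homeomorph.connectedSpace_iff.2 hconn

theorem geometricallyConnected_closedFibre : GeometricallyConnected (pullback.snd f rs) := by
  haveI := connectedSpace_geomFibre A f
  haveI : Surjective (Spec.map (CommRingCat.ofHom (algebraMap (SeparableClosure kA) (AlgebraicClosure kA)))) :=
    ⟨Function.surjective_to_subsingleton (α := Spec (CommRingCat.of (AlgebraicClosure kA))) (β := PrimeSpectrum (SeparableClosure kA)) _⟩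
  refine SepBC.geometricallyConnected _ ?_
  have hs : Surjective (SepBC.cmp (pullback.snd f rs)) := by unfold SepBC.cmp; infer_instance
  exact hs.1.connectedSpace (SepBC.cmp (pullback.snd f rs)).continuous

variable [IsProper f]

omit [IsProper f] in
theorem connectedSpace_closedFibre : ConnectedSpace (pullback f rs : Scheme.{u}) := by
  haveI := connectedSpace_geomFibre A f
  haveI : Surjective ga :=
    ⟨Function.surjective_to_subsingleton (α := Spec (CommRingCat.of (AlgebraicClosure kA))) (β := PrimeSpectrum kA) _⟩
  exact (pullback.fst (pullback.snd f rs) ga).surjective.connectedSpace (pullback.fst (pullback.snd f rs) ga).continuous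

include f hconn in
theorem connectedSpace_total : ConnectedSpace X :=
  haveI := connectedSpace_closedFibre A f
  (clopenLift_closedFibre A f).connectedSpace

/-- **pulling back covers from the base is fully faithful** -/
theorem fullyFaithful_restrict : (FEt.restrict f).Full ∧ (FEt.restrict f).Faithful := by
  haveI := connectedSpace_total A f
  haveI : ConnectedSpace (Spec (CommRingCat.of A)) := S0164.connected_spec_local A
  letI := Groth.Agent.FLCFilt.galoisCat (S := X)
  letI := Groth.Agent.FLCFilt.galoisCat (S := Spec (CommRingCat.of A))
  haveI := (Groth.Agent.S0285.result f).1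
  haveI := (Groth.Agent.S0285.result f).2
  refine (Groth.Agent.S0267.result (FEt.restrict f)).2 fun Y hY => ?_
  haveI := FEtEssIm.connectedSpace_of_isConnected Y
  suffices h : ConnectedSpace ((FEt.restrict f).obj Y).left from
    FEtEssIm.isConnected_of_connectedSpace _
  let Y₀ := (FEt.restrict rs).obj Y
  let P := (FEt.restrict f).obj Y
  have h₁ : ClopenLift (pullback.fst (str Y) rs) := by
    exact clopenLift_of_henselian A (IsLocalRing.maximalIdeal A) (str Y)
  haveI : ConnectedSpace (pullback (str Y) rs : Scheme.{u}) := h₁.connectedSpace_left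
  haveI : ConnectedSpace Y₀.left := ‹ConnectedSpace (pullback (str Y) rs : Scheme.{u})›
  haveI := geometricallyConnected_closedFibre A f
  haveI : UniversallyOpen (pullback.snd f rs) := inferInstance
  haveI : ConnectedSpace ((𝟭 Scheme.{u}).obj Y₀.left : Scheme.{u}) := ‹ConnectedSpace Y₀.left›
  haveI : ConnectedSpace (pullback (str Y₀) (pullback.snd f rs) : Scheme.{u}) := inferInstance
  let e := FEtProd.restrictSquareIso (pullback.fst f rs) f (pullback.snd f rs) rs pullback.condition Y
  haveI : IsIso e.hom.left := isIso_left e.hom
  haveI : ConnectedSpace ((FEt.restrict (pullback.fst f rs)).obj P).left :=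
    (asIso e.hom.left).hom.homeomorph.connectedSpace_iff.2
      (inferInstanceAs (ConnectedSpace (pullback (str Y₀) (pullback.snd f rs) : Scheme.{u})))
  haveI : ConnectedSpace (pullback (str P) (pullback.fst f rs) : Scheme.{u}) :=
    ‹ConnectedSpace ((FEt.restrict (pullback.fst f rs)).obj P).left›
  exact (finClopenLift_closedFibre A f P.left (str P) inferInstance).connectedSpace

/-- **connected covers with a section over the geometric closed fibre come from the base** -/
theorem exists_iso_of_section (X' : FEt.Cat X) [ConnectedSpace X'.left]
    (σ : pullback f (ga ≫ rs) ⟶ X'.left) (hσ : σ ≫ str X' = pullback.fst f (ga ≫ rs)) :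
    ∃ T : FEt.Cat (Spec (CommRingCat.of A)), Nonempty ((FEt.restrict f).obj T ≅ X') := by
  let i := pullback.fst f rs
  let X₀' := (FEt.restrict i).obj X'
  haveI : ConnectedSpace (pullback (str X') i : Scheme.{u}) :=
    (finClopenLift_closedFibre A f X'.left (str X') inferInstance).connectedSpace_left
  haveI : ConnectedSpace X₀'.left := ‹ConnectedSpace (pullback (str X') i : Scheme.{u})›
  haveI := connectedSpace_geomFibre A f
  haveI : CompactSpace (pullback f rs : Scheme.{u}) := QuasiCompact.compactSpace_of_compactSpace (pullback.snd f rs)
  haveI : QuasiSeparatedSpace (pullback f rs : Scheme.{u}) := quasiSeparatedSpace_of_quasiSeparated (pullback.snd f rs)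
  let e := pullbackLeftPullbackSndIso f rs ga
  let σ₀ : pullback (pullback.snd f rs) ga ⟶ X₀'.left :=
    pullback.lift (e.hom ≫ σ) (pullback.fst _ _) (by
      rw [Category.assoc, hσ]
      exact pullbackLeftPullbackSndIso_hom_fst f rs ga)
  obtain ⟨S', ⟨e'⟩⟩ := FieldFEt.exists_iso_of_section (pullback.snd f rs) X₀' σ₀ (pullback.lift_snd _ _ _)
  haveI : (FEt.restrict rs).IsEquivalence := Groth.Agent.S0239.result A (IsLocalRing.maximalIdeal A)
  let T := (FEt.restrict rs).objPreimage S'
  haveI := faithful_restrict (finClopenLift_closedFibre A f)
  haveI := full_restrict (finClopenLift_closedFibre A f)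
  exact ⟨T, ⟨(FEt.restrict i).preimageIso
    (FEtProd.restrictSquareIso i f (pullback.snd f rs) rs pullback.condition T ≪≫
      (FEt.restrict (pullback.snd f rs)).mapIso ((FEt.restrict rs).objObjPreimageIso S') ≪≫ e')⟩⟩

end Groth.Agent.FEtHens
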